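import Mathlib
import Cfsg.Agent.H152.QA.Defs
import Cfsg.Agent.H80.Fpf.Mult

/-!
# S4979 layer (A): unions of fixed spaces, lifts of `p`-subgroups, general form (helper245)
-/

set_option autoImplicit false
set_option linter.style.haveILetI false

namespace Cfsg.Agent.H245.QA

open Cfsg Cfsg.Agent.H152.QA Cfsg.Agent.H80.Fpf

universe u v

/-- If all vectors have stabilizers of index prime to `p`, each vector is fixed by a conjugate of the `p`-subgroup `X`. -/
theorem exists_conj_fix {G V : Type} [Group G] [Finite G] [AddCommGroup V] [DistribMulAction G V] {p : ℕ}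
    (hp : p.Prime) (P1 : ∀ v : V, ¬ p ∣ (MulAction.stabilizer G v).index) (X : Subgroup G) (hX : IsPGroup p X) (v : V) :
    ∃ g : G, g⁻¹ • v ∈ fixV G V X := by
  haveI : Fact p.Prime := ⟨hp⟩
  set H := MulAction.stabilizer G v with hH
  obtain ⟨P⟩ : Nonempty (Sylow p H) := inferInstance
  have hP' : IsPGroup p ((P : Subgroup H).map H.subtype) := P.2.map _
  have hidx : ¬ p ∣ ((P : Subgroup H).map H.subtype).index := by
    rw [Subgroup.index_map_subtype]
    intro hd
    rcases (Nat.Prime.dvd_mul hp).1 hd with h1 | h1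
    · exact P.not_dvd_index h1
    · exact P1 v h1
  let Q : Sylow p G := hP'.toSylow hidx
  obtain ⟨R, hR⟩ := hX.exists_le_sylow
  obtain ⟨g, hg⟩ := MulAction.exists_smul_eq G R Q
  refine ⟨g, fun x hx => ?_⟩
  have h1 : g * x * g⁻¹ ∈ (Q : Subgroup G) := by
    rw [← hg]
    exact Subgroup.smul_mem_pointwise_smul x (MulAut.conj g) (R : Subgroup G) (hR hx)
  have h2 : g * x * g⁻¹ ∈ H := by
    obtain ⟨y, _, hy⟩ := h1
    rw [← hy]
    exact y.2
  have h3 : (g * x * g⁻¹) • v = v := h2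
  have h4 : x • g⁻¹ • v = g⁻¹ • (g * x * g⁻¹) • v := by
    rw [← mul_smul, ← mul_smul]
    congr 1
    group
  rw [h4, h3]

/-- **Union of fixed spaces**: `|V| ≤ |G : N_G(X)| |C_V(X)|`. -/
theorem card_le {G V : Type} [Group G] [Finite G] [AddCommGroup V] [Finite V] [DistribMulAction G V] {p : ℕ}
    (hp : p.Prime) (P1 : ∀ v : V, ¬ p ∣ (MulAction.stabilizer G v).index) (X : Subgroup G) (hX : IsPGroup p X) :
    Nat.card V ≤ (Subgroup.normalizer (X : Set G)).index * Nat.card (fixV G V X) := by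
  set M := Subgroup.normalizer (X : Set G) with hM
  let f : (G ⧸ M) × fixV G V X → V := fun z => (Quotient.out z.1) • (z.2 : V)
  have hf : Function.Surjective f := by
    intro v
    obtain ⟨g, hg⟩ := exists_conj_fix hp P1 X hX v
    obtain ⟨n, hn⟩ := QuotientGroup.mk_out_eq_mul M g
    refine ⟨((g : G ⧸ M), ⟨(n : G)⁻¹ • g⁻¹ • v, fun x hx => ?_⟩), ?_⟩
    · have h1 : (n : G) * x * (n : G)⁻¹ ∈ X := (Subgroup.mem_normalizer_iff.1 n.2 x).1 hx
      have h2 := hg _ h1
      have h3 : x • (n : G)⁻¹ • g⁻¹ • v = (n : G)⁻¹ • ((n : G) * x * (n : G)⁻¹) • g⁻¹ • v := by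
        rw [← mul_smul, ← mul_smul, ← mul_smul, ← mul_smul]
        congr 1
        group
      rw [h3, h2]
    · show (Quotient.out (g : G ⧸ M)) • (n : G)⁻¹ • g⁻¹ • v = v
      have h4 : (Quotient.out (g : G ⧸ M)) = g * n := hn
      rw [h4, ← mul_smul, ← mul_smul]
      have h5 : g * ↑n * (↑n)⁻¹ * g⁻¹ = 1 := by group
      rw [h5, one_smul]
  have h1 := Nat.card_le_card_of_surjective f hf
  rw [Nat.card_prod] at h1
  exact h1

/-- The image of a `p`-subgroup and of its normalizer modulo a central `p'`-subgroup. -/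
theorem mem_normalizer_iff_map {G : Type u} [Group G] [Finite G] {S : Type v} [Group S] {π : G →* S}
    (hc : π.ker ≤ Subgroup.center G) {p : ℕ} (hp : p.Prime) (hk : ¬ p ∣ Nat.card π.ker)
    (X : Subgroup G) (hX : IsPGroup p X) (g : G) :
    g ∈ Subgroup.normalizer (X : Set G) ↔ π g ∈ Subgroup.normalizer ((X.map π : Subgroup S) : Set S) := by
  haveI : Fact p.Prime := ⟨hp⟩
  constructor
  · intro hg
    rw [Subgroup.mem_normalizer_iff] at hg ⊢
    intro y
    constructor
    · rintro ⟨x, hx, rfl⟩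
      exact ⟨g * x * g⁻¹, (hg x).1 hx, by rw [map_mul, map_mul, map_inv]⟩
    · rintro ⟨x, hx, hxy⟩
      refine ⟨g⁻¹ * x * g, (hg _).2 ?_, ?_⟩
      · have : g * (g⁻¹ * x * g) * g⁻¹ = x := by group
        rw [this]; exact hx
      · rw [map_mul, map_mul, map_inv, hxy]; group
  · intro hg
    have key : ∀ g : G, π g ∈ Subgroup.normalizer ((X.map π : Subgroup S) : Set S) → ∀ x ∈ X, g * x * g⁻¹ ∈ X := by
      intro g hg x hx
      have h1 := (Subgroup.mem_normalizer_iff.1 hg (π x)).1 ⟨x, hx, rfl⟩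
      obtain ⟨y, hy, hyx⟩ := h1
      -- `g x g⁻¹ = y z` with `z` in the kernel
      let z := y⁻¹ * (g * x * g⁻¹)
      have hz : z ∈ π.ker := by
        rw [MonoidHom.mem_ker]
        show π (y⁻¹ * (g * x * g⁻¹)) = 1
        rw [map_mul, map_mul, map_mul, map_inv, map_inv, hyx]
        group
      have hzc := hc hz
      have hyz : g * x * g⁻¹ = y * z := by show _ = y * (y⁻¹ * (g * x * g⁻¹)); group
      obtain ⟨a, ha⟩ := hX ⟨x, hx⟩
      obtain ⟨b, hb⟩ := hX ⟨y, hy⟩
      have ha' : x ^ p ^ a = 1 := congrArg (fun t : X => (t : G)) ha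
      have hb' : y ^ p ^ b = 1 := congrArg (fun t : X => (t : G)) hb
      have h2 : (g * x * g⁻¹) ^ p ^ (a + b) = 1 := by
        rw [conj_pow, pow_add, pow_mul, ha', one_pow, mul_one, mul_inv_cancel]
      have h3 : z ^ p ^ (a + b) = 1 := by
        have hcomm : Commute y z := (Subgroup.mem_center_iff.1 hzc y)
        rw [hyz, hcomm.mul_pow, add_comm, pow_add, pow_mul, pow_mul, hb', one_pow, one_mul, ← pow_mul, ← pow_add,
          add_comm] at h2
        exact h2
      have h4 : (⟨z, hz⟩ : π.ker) ^ Nat.card π.ker = 1 := pow_card_eq_one'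
      have h5 : z ^ Nat.card π.ker = 1 := congrArg (fun t : π.ker => (t : G)) h4
      have hcop : Nat.Coprime (p ^ (a + b)) (Nat.card π.ker) := Nat.Coprime.pow_left _ ((Nat.Prime.coprime_iff_not_dvd hp).2 hk)
      have h6 : orderOf z ∣ 1 := by
        rw [← hcop]
        exact Nat.dvd_gcd (orderOf_dvd_of_pow_eq_one h3) (orderOf_dvd_of_pow_eq_one h5)
      have h7 : z = 1 := by
        rw [← orderOf_eq_one_iff]
        exact Nat.dvd_one.1 h6
      rw [hyz, h7, mul_one]
      exact hy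
    rw [Subgroup.mem_normalizer_iff]
    intro x
    constructor
    · exact key g hg x
    · intro hx
      have h1 : π g⁻¹ ∈ Subgroup.normalizer ((X.map π : Subgroup S) : Set S) := by
        rw [map_inv]; exact inv_mem hg
      have h2 := key g⁻¹ h1 _ hx
      have h3 : g⁻¹ * (g * x * g⁻¹) * g⁻¹⁻¹ = x := by group
      rwa [h3] at h2

theorem index_normalizer {G : Type u} [Group G] [Finite G] {S : Type v} [Group S] {π : G →* S}
    (hs : Function.Surjective π) (hc : π.ker ≤ Subgroup.center G) {p : ℕ} (hp : p.Prime) (hk : ¬ p ∣ Nat.card π.ker)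
    (X : Subgroup G) (hX : IsPGroup p X) :
    (Subgroup.normalizer (X : Set G)).index = (Subgroup.normalizer ((X.map π : Subgroup S) : Set S)).index := by
  have h1 : Subgroup.normalizer (X : Set G) = (Subgroup.normalizer ((X.map π : Subgroup S) : Set S)).comap π := by
    ext g
    rw [Subgroup.mem_comap]
    exact mem_normalizer_iff_map hc hp hk X hX g
  rw [h1, Subgroup.index_comap_of_surjective _ hs]

/-- `p`-subgroups lift. -/
theorem exists_lift_pGroup {G : Type u} [Group G] [Finite G] {S : Type v} [Group S] {π : G →* S}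
    (hs : Function.Surjective π) {p : ℕ} (hp : p.Prime) (hk : ¬ p ∣ Nat.card π.ker)
    (Y : Subgroup S) (hY : IsPGroup p Y) :
    ∃ X : Subgroup G, IsPGroup p X ∧ X.map π = Y ∧ Nat.card X = Nat.card Y ∧ ∀ x ∈ X, π x = 1 → x = 1 := by
  haveI : Fact p.Prime := ⟨hp⟩
  haveI : Finite S := Finite.of_surjective π hs
  set M := Y.comap π with hM
  obtain ⟨P⟩ : Nonempty (Sylow p M) := inferInstance
  let X : Subgroup G := (P : Subgroup M).map M.subtype
  have hX : IsPGroup p X := P.2.map _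
  have hinj : ∀ x ∈ X, π x = 1 → x = 1 := by
    intro x hx h1
    obtain ⟨a, ha⟩ := hX ⟨x, hx⟩
    have ha' : x ^ p ^ a = 1 := congrArg (fun t : X => (t : G)) ha
    have h4 : (⟨x, h1⟩ : π.ker) ^ Nat.card π.ker = 1 := pow_card_eq_one'
    have h5 : x ^ Nat.card π.ker = 1 := congrArg (fun t : π.ker => (t : G)) h4
    have hcop : Nat.Coprime (p ^ a) (Nat.card π.ker) := Nat.Coprime.pow_left _ ((Nat.Prime.coprime_iff_not_dvd hp).2 hk)
    have h6 : orderOf x ∣ 1 := by
      rw [← hcop]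
      exact Nat.dvd_gcd (orderOf_dvd_of_pow_eq_one ha') (orderOf_dvd_of_pow_eq_one h5)
    rw [← orderOf_eq_one_iff]
    exact Nat.dvd_one.1 h6
  -- the image
  have hmap : X.map π = Y := by
    apply le_antisymm
    · rintro _ ⟨x, hx, rfl⟩
      obtain ⟨y, _, hy⟩ := hx
      rw [← hy]
      exact y.2
    -- the index of the image in `Y` is prime to `p` and a power of `p`
    let f : M →* Y := π.subgroupComap Y
    have hf : Function.Surjective f := by
      rintro ⟨y, hy⟩
      obtain ⟨g, rfl⟩ := hs y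
      exact ⟨⟨g, hy⟩, rfl⟩
    let P' : Sylow p Y := P.mapSurjective hf
    have h1 : (P' : Subgroup Y) = ⊤ := by
      have h2 : IsPGroup p (⊤ : Subgroup Y) := hY.to_subgroup ⊤
      exact (P'.3 h2 le_top).symm
    have h2 : (P : Subgroup M).map f = ⊤ := by
      rw [← h1]; exact (Sylow.coe_mapSurjective hf P).symm
    intro y hy
    have h3 : (⟨y, hy⟩ : Y) ∈ (P : Subgroup M).map f := by rw [h2]; trivial
    obtain ⟨m, hm, hmy⟩ := h3
    exact ⟨m, ⟨m, hm, rfl⟩, congrArg (fun t : Y => (t : S)) hmy⟩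
  refine ⟨X, hX, hmap, ?_, hinj⟩
  rw [← hmap]
  refine Nat.card_congr (Equiv.ofBijective (fun x : X => (⟨π x, ⟨x, x.2, rfl⟩⟩ : X.map π)) ⟨?_, ?_⟩)
  · intro a b hab
    have h1 : π a = π b := congrArg (fun t : X.map π => (t : S)) hab
    have h2 := hinj ((a : G) * (b : G)⁻¹) (mul_mem a.2 (inv_mem b.2)) (by rw [map_mul, map_inv, h1, mul_inv_cancel])
    apply Subtype.ext
    rwa [mul_inv_eq_one] at h2
  · rintro ⟨y, x, hx, rfl⟩
    exact ⟨⟨x, hx⟩, rfl⟩

end Cfsg.Agent.H245.QA
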