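import Mathlib
import Cfsg.Agent.H245.QA.Idem
import Cfsg.Agent.H245.QA.Fix
import Cfsg.Agent.H80.Fpf.Mult

/-!
# S4979 layer (A), A-T3: the CH criterion (helper245)
-/

set_option autoImplicit false
set_option linter.style.haveILetI false

namespace Cfsg.Agent.H245.QA

open Cfsg Cfsg.Agent.H152.QA Cfsg.Agent.H80.Fpf

universe u v

/-- **The character bound** in a cover: `|χ(g)|² ≤ |C_S(π g)|`. -/
theorem norm_sq_le {G : Type u} [Group G] [Finite G] {S : Type v} [Group S] [Finite S] {π : G →* S}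
    (hπ : IsCover π) {d : ℕ} (ρ : Representation ℂ G (Fin d → ℂ)) (hρ : ρ.IsIrreducible) (g : G) :
    ‖ρ.character g‖ ^ 2 ≤ Nat.card (Subgroup.centralizer ({π g} : Set S)) := by
  classical
  haveI : Fintype G := Fintype.ofFinite G
  haveI : Fintype S := Fintype.ofFinite S
  haveI := hρ
  let σ : S → G := Function.surjInv hπ.surj
  have hσ : ∀ s, π (σ s) = s := Function.surjInv_eq hπ.surj
  let F : S → ℝ := fun s => ‖ρ.character (σ s)‖ ^ 2
  have hF : ∀ g : G, F (π g) = ‖ρ.character g‖ ^ 2 := by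
    intro g
    have h1 : g⁻¹ * σ (π g) ∈ π.ker := by
      rw [MonoidHom.mem_ker, map_mul, map_inv, hσ, inv_mul_cancel]
    have h2 := norm_character_mul ρ hρ (hπ.central h1) g
    rw [mul_inv_cancel_left] at h2
    show ‖ρ.character (σ (π g))‖ ^ 2 = _
    rw [h2]
  have hF0 : ∀ s, 0 ≤ F s := fun s => by positivity
  have hFc : ∀ s t, F (t * s * t⁻¹) = F s := by
    intro s t
    obtain ⟨g, rfl⟩ := hπ.surj s
    obtain ⟨h, rfl⟩ := hπ.surj t
    rw [← map_inv, ← map_mul, ← map_mul, hF, hF, Representation.char_conj]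
  have hsum : ∑ s, F s = Nat.card S := by
    have h1 := sum_fiber hπ.surj F
    simp only [hF] at h1
    rw [Cfsg.Agent.S0191.sum_norm_sq ρ] at h1
    have h2 : Nat.card G = Nat.card π.ker * Nat.card S := by
      have h3 := Subgroup.card_eq_card_quotient_mul_card_subgroup π.ker
      rw [Nat.card_congr (QuotientGroup.quotientKerEquivOfSurjective π hπ.surj).toEquiv] at h3
      rw [h3, mul_comm]
    rw [h2, Nat.cast_mul] at h1
    have h4 : (Nat.card π.ker : ℝ) ≠ 0 := by exact_mod_cast Nat.card_pos.ne'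
    exact (mul_left_cancel₀ h4 h1).symm
  rw [← hF]
  set s := π g with hs
  set C := Subgroup.centralizer ({s} : Set S) with hC
  have hfib : ∀ y : S, ((Finset.univ : Finset S).filter (fun t => t * s * t⁻¹ = y)).card ≤ Nat.card C := by
    intro y
    rcases ((Finset.univ : Finset S).filter (fun t => t * s * t⁻¹ = y)).eq_empty_or_nonempty with h0 | ⟨t, ht⟩
    · rw [h0, Finset.card_empty]; exact Nat.zero_le _
    have ht' := (Finset.mem_filter.1 ht).2
    rw [Nat.card_eq_fintype_card, Fintype.card_subtype]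
    refine Finset.card_le_card_of_injOn (fun t' => t⁻¹ * t') ?_ ?_
    · intro t' ht2
      rw [Finset.mem_coe, Finset.mem_filter] at ht2 ⊢
      refine ⟨Finset.mem_univ _, ?_⟩
      rw [hC, Subgroup.mem_centralizer_singleton_iff]
      have h1 : t' * s * t'⁻¹ = t * s * t⁻¹ := ht2.2.trans ht'.symm
      have h2 : t' * s = t * s * t⁻¹ * t' := by rw [← h1]; group
      calc t⁻¹ * t' * s = t⁻¹ * (t' * s) := by group
        _ = t⁻¹ * (t * s * t⁻¹ * t') := by rw [h2]
        _ = s * (t⁻¹ * t') := by group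
    · intro a _ b _ hab
      exact mul_left_cancel hab
  have h1 : (Nat.card S : ℝ) * F s ≤ Nat.card C * Nat.card S := by
    calc (Nat.card S : ℝ) * F s = ∑ t : S, F (t * s * t⁻¹) := by
          rw [Finset.sum_congr rfl (fun t _ => hFc s t), Finset.sum_const, Finset.card_univ, nsmul_eq_mul,
            Nat.card_eq_fintype_card]
      _ = ∑ y : S, ∑ t ∈ (Finset.univ : Finset S).filter (fun t => t * s * t⁻¹ = y), F (t * s * t⁻¹) :=
          (Finset.sum_fiberwise_of_maps_to (fun _ _ => Finset.mem_univ _) _).symm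
      _ ≤ ∑ y : S, (Nat.card C : ℝ) * F y := by
          apply Finset.sum_le_sum
          intro y _
          rw [Finset.sum_congr rfl (g := fun _ => F y) (fun t ht => by rw [(Finset.mem_filter.1 ht).2]), Finset.sum_const,
            nsmul_eq_mul]
          exact mul_le_mul_of_nonneg_right (by exact_mod_cast hfib y) (hF0 y)
      _ = Nat.card C * Nat.card S := by rw [← Finset.mul_sum, hsum]
  have hS : (0 : ℝ) < Nat.card S := by exact_mod_cast Nat.card_pos
  rw [mul_comm] at h1
  exact le_of_mul_le_mul_right h1 hS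

/-- `|X| dim C_W(X) ≤ d + (|X| - 1) c` if all characters values on `X \ {1}` are at most `c`. -/
theorem card_mul_fix_le {G : Type u} [Group G] [Finite G] {d : ℕ} (τ : Representation ℂ G (Fin d → ℂ)) (X : Subgroup G)
    {c : ℕ} (hc : ∀ x ∈ X, x ≠ 1 → ‖τ.character x‖ ≤ c) :
    Nat.card X * Module.finrank ℂ (fixR τ X) ≤ d + (Nat.card X - 1) * c := by
  classical
  haveI : Fintype X := Fintype.ofFinite X
  have hcard : (Nat.card X : ℂ) ≠ 0 := by exact_mod_cast Nat.card_pos.ne'
  letI : Invertible (Nat.card X : ℂ) := invertibleOfNonzero hcard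
  let τX : Representation ℂ X (Fin d → ℂ) := τ.comp X.subtype
  have h1 := Representation.card_inv_mul_sum_char_eq_finrank (ρ := τX)
  have h2 : Representation.invariants τX = fixR τ X := by
    ext v
    rw [Representation.mem_invariants, mem_fixR]
    exact ⟨fun h g hg => h ⟨g, hg⟩, fun h g => h g g.2⟩
  rw [h2] at h1
  have h3 : ∑ g : X, τX.character g = (Nat.card X : ℂ) * (Module.finrank ℂ (fixR τ X) : ℂ) := by
    rw [← h1, ← mul_assoc, mul_inv_cancel₀ hcard, one_mul]
  have h4 : ((Nat.card X : ℝ)) * (Module.finrank ℂ (fixR τ X) : ℝ) ≤ d + ((Nat.card X - 1 : ℕ) : ℝ) * c := by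
    have h5 : ‖(Nat.card X : ℂ) * (Module.finrank ℂ (fixR τ X) : ℂ)‖ =
        ((Nat.card X : ℝ)) * (Module.finrank ℂ (fixR τ X) : ℝ) := by
      rw [norm_mul, Complex.norm_natCast, Complex.norm_natCast]
    rw [← h5, ← h3, ← Finset.add_sum_erase Finset.univ _ (Finset.mem_univ (1 : X))]
    refine (norm_add_le _ _).trans (add_le_add ?_ ?_)
    · rw [Representation.char_one]
      simp
    · refine (norm_sum_le _ _).trans ?_
      have h6 : ∀ x ∈ (Finset.univ : Finset X).erase 1, ‖τX.character x‖ ≤ (c : ℝ) := by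
        intro x hx
        apply hc x x.2
        intro h7
        exact (Finset.mem_erase.1 hx).1 (Subtype.ext h7)
      refine (Finset.sum_le_sum h6).trans ?_
      rw [Finset.sum_const, Finset.card_erase_of_mem (Finset.mem_univ _), Finset.card_univ, nsmul_eq_mul,
        Nat.card_eq_fintype_card]
  exact_mod_cast h4

/-- Codimensions of fixed spaces of a subrepresentation. -/
theorem exists_irr_sub {G : Type u} [Group G] {d : ℕ} (hd : 0 < d) (ρ : Representation ℂ G (Fin d → ℂ)) :
    ∃ (d' : ℕ) (τ : Representation ℂ G (Fin d' → ℂ)), τ.IsIrreducible ∧ 0 < d' ∧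
      (∀ X : Subgroup G, Module.finrank ℂ (fixR τ X) ≤ Module.finrank ℂ (fixR ρ X)) ∧
      ∀ X : Subgroup G, d' + Module.finrank ℂ (fixR ρ X) ≤ d + Module.finrank ℂ (fixR τ X) := by
  haveI : Nonempty (Fin d) := ⟨⟨0, hd⟩⟩
  obtain ⟨σ, hσ⟩ := Cfsg.Agent.S1492.exists_irreducible_sub ρ
  obtain ⟨d', τ, hτ, ⟨e⟩⟩ := Cfsg.Agent.S0184.exists_fin_model σ.toRepresentation hσ
  have hcomm : ∀ (g : G) (v : σ.toSubmodule), e (σ.toRepresentation g v) = τ g (e v) := fun g v =>
    Representation.IntertwiningMap.isIntertwining _ _ e.toIntertwiningMap g v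
  haveI := hτ
  have hfix : ∀ X : Subgroup G, Module.finrank ℂ (fixR τ X) = Module.finrank ℂ (fixR ρ X ⊓ σ.toSubmodule : Submodule ℂ _) := by
    intro X
    have h1 : fixR τ X = (fixR σ.toRepresentation X).map e.toLinearEquiv.toLinearMap := by
      ext v
      rw [Submodule.mem_map]
      constructor
      · intro h
        obtain ⟨w, rfl⟩ := e.toLinearEquiv.surjective v
        refine ⟨w, fun g hg => ?_, rfl⟩
        apply e.toLinearEquiv.injective
        exact (hcomm g w).trans (h g hg)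
      · rintro ⟨w, hw, rfl⟩ g hg
        exact (hcomm g w).symm.trans (congrArg e (hw g hg))
    have h2 : Module.finrank ℂ (fixR σ.toRepresentation X) = Module.finrank ℂ (fixR ρ X ⊓ σ.toSubmodule : Submodule ℂ _) := by
      have h3 : (fixR σ.toRepresentation X).map σ.toSubmodule.subtype = fixR ρ X ⊓ σ.toSubmodule := by
        ext v
        rw [Submodule.mem_map]
        constructor
        · rintro ⟨w, hw, rfl⟩
          refine ⟨fun g hg => ?_, w.2⟩
          exact congrArg (fun x : σ.toSubmodule => (x : Fin d → ℂ)) (hw g hg)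
        · rintro ⟨h4, h5⟩
          exact ⟨⟨v, h5⟩, fun g hg => Subtype.ext (h4 g hg), rfl⟩
      rw [← h3]
      exact (Submodule.finrank_map_subtype_eq σ.toSubmodule (fixR σ.toRepresentation X)).symm
    rw [h1, ← h2]
    exact LinearEquiv.finrank_map_eq e.toLinearEquiv _
  have hdim : Module.finrank ℂ σ.toSubmodule = d' := by
    have := e.toLinearEquiv.finrank_eq
    rwa [Module.finrank_fin_fun] at this
  refine ⟨d', τ, hτ, Cfsg.Agent.Blocks.CliffordCentral.pos_of_irreducible τ, fun X => ?_, fun X => ?_⟩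
  · rw [hfix]
    exact Submodule.finrank_mono inf_le_left
  · rw [hfix]
    have h1 := Submodule.finrank_sup_add_finrank_inf_eq (fixR ρ X) σ.toSubmodule
    have h2 := Submodule.finrank_le (fixR ρ X ⊔ σ.toSubmodule)
    rw [Module.finrank_fin_fun] at h2
    omega

section General

variable {G V S : Type} [Group G] [Finite G] [AddCommGroup V] [Finite V] [DistribMulAction G V] [Group S] {π : G →* S}
  {p q : ℕ}

/-- **a non-trivial irreducible constituent** of the complex representation of `V`, general form -/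
theorem exists_irr_gen [Nontrivial V] (hq : q.Prime) (hexp : ∀ v : V, q • v = 0) (hcop : ¬ q ∣ Nat.card G)
    (hfix : fixV G V ⊤ = ⊥) (hπ : IsCover π) {B : ℕ} (hB : MinDeg S B) :
    ∃ (d d' : ℕ) (τ : Representation ℂ G (Fin d' → ℂ)), Nat.card V = q ^ d ∧ τ.IsIrreducible ∧ 2 ≤ d' ∧ B ≤ d' ∧ d' ≤ d ∧
      ∀ X : Subgroup G, ∃ f : ℕ, Nat.card (fixV G V X) = q ^ f ∧ f ≤ d ∧
        d' + f ≤ d + Module.finrank ℂ (fixR τ X) := by
  haveI : Fact q.Prime := ⟨hq⟩
  obtain ⟨d, ρ, hd, hρ'⟩ := exists_rep_fix hexp hcop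
  have hρ : ∀ X : Subgroup G, Nat.card (fixV G V X) = q ^ Module.finrank ℂ (fixR ρ X) := hρ'
  have hd0 : 0 < d := by
    rcases Nat.eq_zero_or_pos d with h0 | h0
    · exfalso
      rw [h0, pow_zero] at hd
      have h1 := Finite.one_lt_card (α := V)
      omega
    · exact h0
  obtain ⟨d', τ, hτ, hd', h1, h2⟩ := exists_irr_sub hd0 ρ
  have hf0 : Module.finrank ℂ (fixR ρ ⊤) = 0 := by
    have h3 := hρ ⊤
    rw [hfix, AddSubgroup.card_bot] at h3
    by_contra h4
    have h5 := Nat.one_lt_pow h4 hq.one_lt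
    omega
  have h3 : 2 ≤ d' := by
    by_contra hlt
    have hd1 : d' = 1 := by omega
    subst hd1
    have h4 : fixR τ ⊤ = ⊤ := by
      rw [eq_top_iff]
      intro v _ g _
      rw [eq_one_of_perfect hπ.perf τ g]
      rfl
    have h5 := h1 ⊤
    rw [h4, finrank_top, Module.finrank_fin_fun, hf0] at h5
    omega
  refine ⟨d, d', τ, hd, hτ, h3, hB G π hπ d' τ hτ h3, ?_, fun X => ⟨_, hρ X, ?_, h2 X⟩⟩
  · have h7 := h2 ⊤
    rw [hf0] at h7
    have h9 : Module.finrank ℂ (fixR τ (⊤ : Subgroup G)) = 0 := by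
      have := h1 ⊤
      omega
    omega
  · have := Submodule.finrank_le (fixR ρ X)
    rwa [Module.finrank_fin_fun] at this

/-- **CH criterion**, general form. -/
theorem ch_gen [Nontrivial V] [Finite S] (hp : p.Prime) (hq : q.Prime) (hexp : ∀ v : V, q • v = 0)
    (hcop : ¬ q ∣ Nat.card G) (P1 : ∀ v : V, ¬ p ∣ (MulAction.stabilizer G v).index)
    (hfix : fixV G V ⊤ = ⊥) (hπ : IsCover π) (hk : ¬ p ∣ Nat.card π.ker)
    {B c : ℕ} (hB : MinDeg S B) (X : Subgroup S)
    (hX : IsPGroup p X) (hc : ∀ x ∈ X, x ≠ 1 → Nat.card (Subgroup.centralizer ({x} : Set S)) ≤ c ^ 2) :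
    q ^ ((Nat.card X - 1) * (B - c)) ≤ (Subgroup.normalizer (X : Set S)).index ^ Nat.card X := by
  obtain ⟨Y, hY, hYX, hcard, hinj⟩ := exists_lift_pGroup hπ.surj hp hk X hX
  obtain ⟨d, d', τ, hd, hτ, hd2, hBd, hdd, hf⟩ := exists_irr_gen hq hexp hcop hfix hπ hB
  obtain ⟨f, hf1, hf2, hf3⟩ := hf Y
  have h1 := card_le hp P1 Y hY
  rw [index_normalizer hπ.surj hπ.central hp hk Y hY, hYX, hd, hf1] at h1
  have h2 : q ^ (d - f) ≤ (Subgroup.normalizer (X : Set S)).index := by
    have h3 : q ^ d = q ^ (d - f) * q ^ f := by rw [← pow_add]; congr 1; omega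
    rw [h3] at h1
    exact Nat.le_of_mul_le_mul_right h1 (Nat.pow_pos hq.pos)
  have h4 : Nat.card Y * Module.finrank ℂ (fixR τ Y) ≤ d' + (Nat.card Y - 1) * c := by
    apply card_mul_fix_le
    intro y hy hy1
    have h5 := norm_sq_le hπ τ hτ y
    have h6 : Nat.card (Subgroup.centralizer ({π y} : Set S)) ≤ c ^ 2 := by
      apply hc
      · rw [← hYX]; exact ⟨y, hy, rfl⟩
      · exact fun h => hy1 (hinj y hy h)
    have h7 : ‖τ.character y‖ ^ 2 ≤ (c : ℝ) ^ 2 := h5.trans (by exact_mod_cast h6)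
    exact (sq_le_sq₀ (norm_nonneg _) (Nat.cast_nonneg c)).1 h7
  rw [hcard] at h4
  have hX1 : 1 ≤ Nat.card X := Nat.card_pos
  have h5 : (Nat.card X - 1) * (B - c) ≤ Nat.card X * (d - f) := by
    obtain ⟨m, hm⟩ : ∃ m, Nat.card X = m + 1 := ⟨Nat.card X - 1, by omega⟩
    rw [hm] at h4 ⊢
    rw [Nat.add_sub_cancel] at h4 ⊢
    rcases Nat.le_total B c with hBc | hBc
    · rw [Nat.sub_eq_zero_of_le hBc, mul_zero]; exact Nat.zero_le _
    -- `a := dim of fixed points of τ`
    set a := Module.finrank ℂ (fixR τ Y) with ha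
    obtain ⟨e, he⟩ : ∃ e, B = c + e := ⟨B - c, by omega⟩
    obtain ⟨k, hk⟩ : ∃ k, d = f + k := ⟨d - f, by omega⟩
    have h8 : B - c = e := by omega
    have h9 : d - f = k := by omega
    rw [h8, h9]
    -- `d' ≤ k + a`
    have h10 : d' ≤ k + a := by omega
    have h11 : (m + 1) * d' ≤ (m + 1) * (k + a) := Nat.mul_le_mul_left _ h10
    have h12 : m * (c + e) ≤ m * d' := Nat.mul_le_mul_left _ (by omega)
    nlinarith
  calc q ^ ((Nat.card X - 1) * (B - c)) ≤ q ^ (Nat.card X * (d - f)) := Nat.pow_le_pow_right hq.pos h5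
    _ = (q ^ (d - f)) ^ Nat.card X := by rw [mul_comm, pow_mul]
    _ ≤ _ := Nat.pow_le_pow_left h2 _

end General

section

variable {p q : ℕ} {L V S : Type} [Group L] [Finite L] [AddCommGroup V] [Finite V] [DistribMulAction L V]
  [Group S] [Finite S] [IsSimpleGroup S] {π : L →* S} {N : Subgroup L} {φ : N →* ℂˣ}

/-- no fixed points of the whole group -/
theorem Sit.fixV_top (h : Sit (V := V) p q N φ) : fixV L V ⊤ = ⊥ := by
  rcases h.irr (fixV L V ⊤) (fun g w hw => by rw [hw g trivial]; exact hw) with h1 | h1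
  · exact h1
  exfalso
  have hN : N = ⊤ := by
    rw [eq_top_iff]
    intro g _
    rw [← h.ker g]
    intro v
    have hv : v ∈ fixV L V ⊤ := by rw [h1]; trivial
    exact hv g trivial
  have h2 : Subgroup.center L = ⊤ := by
    rw [eq_top_iff, ← hN]
    exact h.cen
  apply h.pZ
  rw [h2, Subgroup.card_top]
  exact h.pL

omit [IsSimpleGroup S] in
/-- **CH criterion**: `X` a `p`-subgroup of `S` all of whose non-identity elements have centralizers of order `≤ c ^ 2`. -/
theorem Sit.ch (h : Sit (V := V) p q N φ) (hπ : IsCover π) {B c : ℕ} (hB : MinDeg S B) (X : Subgroup S)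
    (hX : IsPGroup p X) (hc : ∀ x ∈ X, x ≠ 1 → Nat.card (Subgroup.centralizer ({x} : Set S)) ≤ c ^ 2) :
    q ^ ((Nat.card X - 1) * (B - c)) ≤ (Subgroup.normalizer (X : Set S)).index ^ Nat.card X := by
  haveI := h.nt
  exact ch_gen h.hp h.hq h.exp h.qL h.P1 (Sit.fixV_top h) hπ
    (fun hd => h.pZ (hd.trans (Subgroup.card_dvd_of_le hπ.central))) hB X hX hc

end

end Cfsg.Agent.H245.QA
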